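import Mathlib
import Groth.Prelude.Def_FlatCA
import Groth.Agent.S4848

/-!
# The directed system of quotients `S/I₀S`, `I₀ ⊆ I` finitely generated, with colimit `S/IS`
-/

set_option autoImplicit false
set_option linter.style.haveILetI false
universe u
open TensorProduct Function

namespace Groth.Agent.H70.NilFibre

variable {R : Type u} (S : Type u) [CommRing R] [CommRing S] [Algebra R S] (I : Ideal R)

/-- index type: finitely generated subideals of `I` -/
structure FGSub : Type u where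
  val : Ideal R
  le : val ≤ I
  fg : val.FG

instance : Preorder (FGSub I) where
  le a b := a.val ≤ b.val
  le_refl a := le_refl a.val
  le_trans _ _ _ := le_trans

/-- the stage rings -/
abbrev Q (i : FGSub I) : Type u := S ⧸ i.val.map (algebraMap R S)

variable {S I}

/-- transition maps -/
noncomputable def trans (i j : FGSub I) (h : i ≤ j) : Q S I i →ₐ[S] Q S I j :=
  Ideal.Quotient.factorₐ S (Ideal.map_mono h)

@[simp] theorem trans_mk (i j : FGSub I) (h : i ≤ j) (s : S) :
    trans i j h (Ideal.Quotient.mk _ s) = Ideal.Quotient.mk _ s := rfl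

/-- the maps to the colimit -/
noncomputable def toColim (i : FGSub I) : Q S I i →+* S ⧸ I.map (algebraMap R S) :=
  Ideal.Quotient.factor (Ideal.map_mono i.le)

@[simp] theorem toColim_mk (i : FGSub I) (s : S) :
    toColim i (Ideal.Quotient.mk _ s) = Ideal.Quotient.mk _ s := rfl

theorem exists_fg_le_of_mem_map {s : S} (hs : s ∈ I.map (algebraMap R S)) :
    ∃ I₁ : Ideal R, I₁ ≤ I ∧ I₁.FG ∧ s ∈ I₁.map (algebraMap R S) := by
  classical
  rw [Ideal.map] at hs
  obtain ⟨T, hT, hsT⟩ := Submodule.mem_span_finite_of_mem_span hs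
  obtain ⟨T₀, hT₀, hT₀'⟩ := Finset.subset_set_image_iff.mp hT
  refine ⟨Ideal.span (T₀ : Set R), Ideal.span_le.mpr hT₀, ⟨T₀, rfl⟩, ?_⟩
  rw [Ideal.map_span]
  have : ((algebraMap R S) '' (T₀ : Set R)) = (T : Set S) := by
    rw [← hT₀']
    simp
  rw [this]
  exact hsT

theorem isDirectedColimitRing :
    letI : ∀ i : FGSub I, Algebra (Q S I i) (S ⧸ I.map (algebraMap R S)) :=
      fun i => (toColim i).toAlgebra
    FlatCA.IsDirectedColimitRing (Q S I) (fun i j h => (trans i j h).toRingHom)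
      (S ⧸ I.map (algebraMap R S)) := by
  letI : ∀ i : FGSub I, Algebra (Q S I i) (S ⧸ I.map (algebraMap R S)) :=
    fun i => (toColim i).toAlgebra
  refine ⟨⟨fun i j => ⟨⟨i.val ⊔ j.val, sup_le i.le j.le, Submodule.FG.sup i.fg j.fg⟩,
      (le_sup_left : i.val ≤ i.val ⊔ j.val), (le_sup_right : j.val ≤ i.val ⊔ j.val)⟩⟩,
    ⟨⟨⊥, bot_le, Submodule.fg_bot⟩⟩, ?_, ?_, ?_, ?_, ?_⟩
  · intro i
    refine Ideal.Quotient.ringHom_ext ?_
    ext s
    rfl
  · intro i j k hij hjk
    refine Ideal.Quotient.ringHom_ext ?_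
    ext s
    rfl
  · intro i j h
    refine Ideal.Quotient.ringHom_ext ?_
    ext s
    rfl
  · intro a
    obtain ⟨s, rfl⟩ := Ideal.Quotient.mk_surjective a
    exact ⟨⟨⊥, bot_le, Submodule.fg_bot⟩, Ideal.Quotient.mk _ s, rfl⟩
  · intro i x hx
    obtain ⟨s, rfl⟩ := Ideal.Quotient.mk_surjective x
    change toColim i (Ideal.Quotient.mk _ s) = 0 at hx
    rw [toColim_mk, Ideal.Quotient.eq_zero_iff_mem] at hx
    obtain ⟨I₁, hI₁, hfg, hs⟩ := exists_fg_le_of_mem_map hx
    let j : FGSub I := ⟨i.val ⊔ I₁, sup_le i.le hI₁, Submodule.FG.sup i.fg hfg⟩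
    have hij : i ≤ j := (le_sup_left : i.val ≤ i.val ⊔ I₁)
    refine ⟨j, hij, ?_⟩
    change trans i j hij (Ideal.Quotient.mk _ s) = 0
    rw [trans_mk, Ideal.Quotient.eq_zero_iff_mem]
    exact Ideal.map_mono (le_sup_right : I₁ ≤ i.val ⊔ I₁) hs

/-- Flatness of the reduction modulo `I` descends to a finitely generated subideal (via S4848). -/
theorem exists_fg_flat {S' : Type u} [CommRing S'] [Algebra S S']
    [Algebra.FinitePresentation S S'] (M : Type u) [AddCommGroup M] [Module S' M] [Module S M]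
    [IsScalarTower S S' M] [Module.FinitePresentation S' M]
    (h : Module.Flat (S ⧸ I.map (algebraMap R S)) ((S ⧸ I.map (algebraMap R S)) ⊗[S] M)) :
    ∃ I₀ : Ideal R, I₀ ≤ I ∧ I₀.FG ∧ Module.Flat (S ⧸ I₀.map (algebraMap R S))
      ((S ⧸ I₀.map (algebraMap R S)) ⊗[S] M) := by
  letI : ∀ i : FGSub I, Algebra (Q S I i) (S ⧸ I.map (algebraMap R S)) :=
    fun i => (toColim i).toAlgebra
  haveI : ∀ i : FGSub I, IsScalarTower S (Q S I i) (S ⧸ I.map (algebraMap R S)) := fun i =>
    IsScalarTower.of_algebraMap_eq fun a => rfl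
  obtain ⟨i, hi⟩ := (Groth.Agent.S4848.result (A₀ := S) (Q S I) (fun i j h => trans i j h)
    (S ⧸ I.map (algebraMap R S)) isDirectedColimitRing (B₀ := S') M).mp h
  exact ⟨i.val, i.le, i.fg, hi⟩

end Groth.Agent.H70.NilFibre
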