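import Mathlib
import Groth.Agent.H70.NilFibre.QuotSystem
import Groth.Agent.H19.Tor1U

/-!
# Fibre criterion of flatness modulo a locally nilpotent ideal
-/

set_option autoImplicit false
set_option linter.style.haveILetI false
universe u
open TensorProduct Function

namespace Groth.Agent.H70.NilFibre

section Tor

variable {R S : Type u} [CommRing R] [CommRing S] [Algebra R S] (I₀ : Ideal R)
  (M : Type u) [AddCommGroup M] [Module S M] [Module R M] [IsScalarTower R S M]

/-- the comparison map `I₀ ⊗_R M → I₀S ⊗_S M` -/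
noncomputable def theta : (I₀ ⊗[R] M) →+ ((I₀.map (algebraMap R S) : Ideal S) ⊗[S] M) :=
  TensorProduct.liftAddHom
    { toFun := fun a => (TensorProduct.mk S (I₀.map (algebraMap R S) : Ideal S) M
        ⟨algebraMap R S a, Ideal.mem_map_of_mem _ a.2⟩).toAddMonoidHom
      map_zero' := by
        ext m
        change (⟨algebraMap R S ((0 : I₀) : R), _⟩ : (I₀.map (algebraMap R S) : Ideal S)) ⊗ₜ[S] m = 0
        have : (⟨algebraMap R S ((0 : I₀) : R), Ideal.mem_map_of_mem _ (0 : I₀).2⟩ :
            (I₀.map (algebraMap R S) : Ideal S)) = 0 := Subtype.ext (by simp)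
        rw [this, TensorProduct.zero_tmul]
      map_add' := by
        intro a b
        ext m
        change (⟨algebraMap R S ((a + b : I₀) : R), _⟩ :
          (I₀.map (algebraMap R S) : Ideal S)) ⊗ₜ[S] m = _ ⊗ₜ[S] m + _ ⊗ₜ[S] m
        rw [← TensorProduct.add_tmul]
        congr 1
        exact Subtype.ext (by simp) }
    (by
      intro r a m
      change (⟨algebraMap R S ((r • a : I₀) : R), _⟩ :
          (I₀.map (algebraMap R S) : Ideal S)) ⊗ₜ[S] m = _ ⊗ₜ[S] (r • m)
      rw [← algebraMap_smul S r m, ← TensorProduct.smul_tmul]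
      congr 1
      exact Subtype.ext (by simp [Algebra.smul_def]))

@[simp] theorem theta_tmul (a : I₀) (m : M) :
    theta I₀ M (a ⊗ₜ[R] m) =
      (⟨algebraMap R S a, Ideal.mem_map_of_mem _ a.2⟩ : (I₀.map (algebraMap R S) : Ideal S)) ⊗ₜ[S] m :=
  rfl

theorem theta_surjective : Surjective (theta (S := S) I₀ M) := by
  intro z
  induction z using TensorProduct.induction_on with
  | zero => exact ⟨0, map_zero _⟩
  | add x y hx hy =>
    obtain ⟨x', rfl⟩ := hx
    obtain ⟨y', rfl⟩ := hy
    exact ⟨x' + y', map_add _ _ _⟩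
  | tmul j m =>
    obtain ⟨j, hj⟩ := j
    revert m
    refine Submodule.span_induction (p := fun j hj => ∀ m : M, ∃ w, theta I₀ M w =
      (⟨j, hj⟩ : (I₀.map (algebraMap R S) : Ideal S)) ⊗ₜ[S] m) ?_ ?_ ?_ ?_ hj
    · rintro _ ⟨a, ha, rfl⟩ m
      exact ⟨(⟨a, ha⟩ : I₀) ⊗ₜ[R] m, rfl⟩
    · intro m
      refine ⟨0, ?_⟩
      rw [map_zero]
      have : (⟨0, Submodule.zero_mem _⟩ : (I₀.map (algebraMap R S) : Ideal S)) = 0 := rfl
      rw [this, TensorProduct.zero_tmul]
    · intro x y hx hy ihx ihy m
      obtain ⟨w₁, h₁⟩ := ihx m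
      obtain ⟨w₂, h₂⟩ := ihy m
      refine ⟨w₁ + w₂, ?_⟩
      rw [map_add, h₁, h₂, ← TensorProduct.add_tmul]
      rfl
    · intro s x hx ih m
      obtain ⟨w, hw⟩ := ih (s • m)
      refine ⟨w, ?_⟩
      rw [hw, ← TensorProduct.smul_tmul]
      rfl

theorem rTensor_map_injective [Module.Flat R M] :
    Injective (LinearMap.rTensor M (Submodule.subtype (I₀.map (algebraMap R S)))) := by
  have hR : Injective (LinearMap.rTensor M (Submodule.subtype I₀)) :=
    Module.Flat.rTensor_preserves_injective_linearMap _ (Submodule.subtype_injective _)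
  have hcomm : ∀ w : I₀ ⊗[R] M,
      TensorProduct.lid S M (LinearMap.rTensor M (Submodule.subtype (I₀.map (algebraMap R S)))
        (theta I₀ M w)) = TensorProduct.lid R M (LinearMap.rTensor M (Submodule.subtype I₀) w) := by
    intro w
    induction w using TensorProduct.induction_on with
    | zero => simp
    | add x y hx hy => simp only [map_add, hx, hy]
    | tmul a m =>
      rw [theta_tmul, LinearMap.rTensor_tmul, LinearMap.rTensor_tmul, TensorProduct.lid_tmul,
        TensorProduct.lid_tmul]
      simp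
  rw [injective_iff_map_eq_zero]
  intro z hz
  obtain ⟨w, rfl⟩ := theta_surjective I₀ M z
  have h1 := hcomm w
  rw [hz, map_zero] at h1
  have h2 : LinearMap.rTensor M (Submodule.subtype I₀) w = 0 :=
    (LinearEquiv.map_eq_zero_iff (TensorProduct.lid R M)).mp h1.symm
  have h3 : w = 0 := by
    apply hR
    rw [h2, map_zero]
  rw [h3, map_zero]

end Tor

/-- **Fibre criterion modulo a locally nilpotent ideal** (Stacks 10.128.6 / EGA IV 11.3.11). -/
theorem flat_of_flat_mod_nil {R S S' M : Type u} [CommRing R] [CommRing S] [CommRing S']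
    [Algebra R S] [Algebra S S'] [Algebra R S'] [IsScalarTower R S S']
    [Algebra.FiniteType R S] [Algebra.FinitePresentation R S'] (I : Ideal R)
    (hI : ∀ a ∈ I, IsNilpotent a)
    [AddCommGroup M] [Module S' M] [Module S M] [Module R M] [IsScalarTower S S' M]
    [IsScalarTower R S M] [Module.FinitePresentation S' M] [Module.Flat R M]
    (h : Module.Flat (S ⧸ I.map (algebraMap R S)) ((S ⧸ I.map (algebraMap R S)) ⊗[S] M)) :
    Module.Flat S M := by
  haveI : Algebra.FinitePresentation S S' :=
    Algebra.FinitePresentation.of_restrict_scalars_finitePresentation R S S'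
  obtain ⟨I₀, hle, hfg, hflat⟩ := exists_fg_flat (S := S) (I := I) (S' := S') M h
  have hnil0 : IsNilpotent I₀ := by
    rw [Ideal.FG.isNilpotent_iff_le_nilradical hfg]
    intro a ha
    exact mem_nilradical.mpr (hI a (hle ha))
  have hnil : IsNilpotent (I₀.map (algebraMap R S)) := by
    obtain ⟨k, hk⟩ := hnil0
    refine ⟨k, ?_⟩
    rw [← Ideal.map_pow, hk]
    exact Ideal.map_bot
  exact (Groth.Agent.H19.Tor1U.main S (I₀.map (algebraMap R S)) hnil M).mpr
    ⟨hflat, rTensor_map_injective I₀ M⟩

end Groth.Agent.H70.NilFibre
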